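import Groth.Agent.PullDeg75.Basic
import Groth.Agent.VarMods75.Additive
import Groth.Agent.FMK72.BaseChange
import Groth.Agent.Crv77.DegreeInt
import Groth.Agent.Var76.HHPush
import Mathlib.AlgebraicGeometry.ZariskisMainTheorem

/-! Degrees of pullbacks under finite morphisms of curves. -/

set_option autoImplicit false
set_option backward.isDefEq.respectTransparency.types false
universe u

open CategoryTheory CategoryTheory.Limits AlgebraicGeometry TopologicalSpace Opposite

noncomputable section

namespace Groth.Agent.CurveDeg75

/-- Projection formula for a finite locally free module along an affine morphism. -/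
theorem nonempty_projIso {X Y : Scheme.{u}} (f : X ⟶ Y) [IsAffineHom f] (F : X.Modules) [F.IsQuasicoherent]
    {E : Y.Modules} [E.IsQuasicoherent] :
    Nonempty (CohB1.tensorMod ((Coh.push f).obj F) E ≅
      (Coh.push f).obj (CohB1.tensorMod F ((Scheme.Modules.pullback f).obj E))) :=
  ⟨@asIso _ _ _ _ ((FMK72.projNat f E).app F) (FMK72.isIso_projNat_app f E F)⟩

/-- The Euler characteristic of a direct image along a finite morphism. -/
theorem euler_push_finite (k : Type u) [Field k] {X Y : Scheme.{u}} [X.Over (Spec (CommRingCat.of k))]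
    [Y.Over (Spec (CommRingCat.of k))] [IsProper (Y ↘ Spec (CommRingCat.of k))] (f : X ⟶ Y) [IsFinite f]
    (hf : f ≫ (Y ↘ Spec (CommRingCat.of k)) = X ↘ Spec (CommRingCat.of k)) (M : X.Modules) (hM : Coh.IsCoh M) :
    Curv2.euler k Y ((Coh.push f).obj M) = Curv2.euler k X M := by
  have := Crv77.isNoetherian_of_proper k Y
  have := hM.1
  refine finsum_congr fun i => ?_
  obtain ⟨e⟩ := Var76.nonempty_hhLin_push f hf M (Cyc90.isCoh_push_of_isFinite f M hM).1 i
  exact congrArg (fun n : ℕ => (-1 : ℤ) ^ i * (n : ℤ)) e.finrank_eq

variable (k : Type u) [Field k] {X Y : Scheme.{u}} [X.Over (Spec (CommRingCat.of k))]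
  [Y.Over (Spec (CommRingCat.of k))] [IsIntegral X] [IsIntegral Y]
  [IsProper (X ↘ Spec (CommRingCat.of k))] [IsProper (Y ↘ Spec (CommRingCat.of k))]
  (hX : topologicalKrullDim X = 1) (hY : topologicalKrullDim Y = 1)
  (f : X ⟶ Y) (hf : f ≫ (Y ↘ Spec (CommRingCat.of k)) = X ↘ Spec (CommRingCat.of k))
  (hξ : f.base (genericPoint X) = genericPoint Y)

theorem dim_closure_genericPoint {X : Scheme.{u}} [IsIntegral X] {d : WithBot ℕ∞} (h : topologicalKrullDim X = d) :
    topologicalKrullDim (closure ({genericPoint X} : Set X)) = d := by
  rw [(genericPoint_spec X).def, ← h]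
  exact IsHomeomorph.topologicalKrullDim_eq _ (Homeomorph.Set.univ X).isHomeomorph

include hX hY hf hξ in
/-- A nonconstant morphism of proper curves is finite. -/
theorem isFinite_of_nonconst : IsFinite f := by
  have := FGA29.isProper_of_over k f hf
  have := Crv77.isNoetherian_of_proper k X
  have := Crv77.isNoetherian_of_proper k Y
  have key : ∀ C : Set X, IsClosed C → genericPoint X ∉ C → C.Finite := fun C hC hη => by
    have := (Crv77.finite_closed (X := X) hX.le (U := ⟨Cᶜ, hC.isOpen_compl⟩) ⟨genericPoint X, hη⟩).1
    simpa using this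
  have : LocallyQuasiFinite f := by
    refine LocallyQuasiFinite.of_finite_preimage_singleton f fun y => ?_
    by_cases hy : y = genericPoint Y
    · refine (Set.finite_singleton (genericPoint X)).subset fun x hx => ?_
      by_contra hne
      have himg := f.isClosedMap _ (Crv77.isClosed_singleton hX.le hne)
      rw [Set.image_singleton, show f x = y from hx, hy] at himg
      have huniv := (genericPoint_spec Y).def
      rw [himg.closure_eq] at huniv
      have hdim0 : topologicalKrullDim Y ≤ 0 := by
        have : Subsingleton Y := ⟨fun a b => by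
          have ha : a ∈ ({genericPoint Y} : Set Y) := huniv.symm ▸ Set.mem_univ a
          have hb : b ∈ ({genericPoint Y} : Set Y) := huniv.symm ▸ Set.mem_univ b
          exact ha.trans hb.symm⟩
        exact topologicalKrullDim_zero_of_discreteTopology _
      rw [hY] at hdim0
      exact not_le.2 zero_lt_one hdim0
    · refine Set.Finite.subset (s := f ⁻¹' closure {y}) ?_ (Set.preimage_mono subset_closure)
      refine key _ (isClosed_closure.preimage f.continuous) fun hg => hy ?_
      have : genericPoint Y ∈ closure ({y} : Set Y) := hξ ▸ hg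
      exact ((genericPoint_specializes y).antisymm (specializes_iff_mem_closure.2 this)).eq.symm
  exact IsFinite.of_isProper_of_locallyQuasiFinite f

include hX hY hf hξ in
/-- The degree of a pullback to a finite covering curve. -/
theorem deg_pullback (n : ℕ) (E : Y.Modules) (hE : FlatMod.IsFinLocFreeOfRank n E) :
    Curv2.deg k X ((Scheme.Modules.pullback f).obj E) n =
      (f.residueDegree (genericPoint X) : ℤ) * Curv2.deg k Y E n := by
  classical
  have := isFinite_of_nonconst k hX hY f hf hξ
  have := Crv77.isNoetherian_of_proper k X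
  have := Crv77.isNoetherian_of_proper k Y
  have hEc := VarMods75.isCoh hE
  have := hEc.1
  have := QCPull72.isQuasicoherent_pullback f E
  have hOX : Coh.IsCoh (Coh.structureModule X) := Crv77.isCoh_structureModule
  have hOY : Coh.IsCoh (Coh.structureModule Y) := Crv77.isCoh_structureModule
  have := hOX.1
  obtain ⟨T, c, hT, hform⟩ := VarMods75.exists_euler_tensor_formula k hY.le hE
  have hη1 := dim_closure_genericPoint (X := Y) (d := (1 : WithBot ℕ∞)) hY
  have hTs : ∀ F : Y.Modules, ∑ η ∈ T, Snapper75.len F η * c η =
      Snapper75.len F (genericPoint Y) * c (genericPoint Y) := fun F =>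
    Finset.sum_eq_single_of_mem _ ((hT _).2 hη1) fun x hx hne => absurd
      (Snapper75.eq_of_dim_eq (d := 1) (by simpa using (hT x).1 hx) (by simpa using hη1.le)
        (genericPoint_specializes x)).symm hne
  -- on the target
  have h1 := hform _ hOY
  have hlen1 : Snapper75.len (Coh.structureModule Y) (genericPoint Y) = 1 := by
    rw [Snapper75.len, (QC70.unitStalkEquiv (genericPoint Y)).symm.length_eq,
      show Module.length (Y.presheaf.stalk (genericPoint Y)) (Y.presheaf.stalk (genericPoint Y)) = 1 from
        Module.length_eq_one (R := Y.functionField) (M := Y.functionField)]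
    rfl
  rw [hTs, hlen1, one_mul, Crv77.euler_congr (EGA73.tensUnitLeft E)] at h1
  -- on the direct image
  let P := (Coh.push f).obj (Coh.structureModule X)
  have hP : Coh.IsCoh P := Cyc90.isCoh_push_of_isFinite f _ hOX
  have h2 := hform P hP
  have hlen2 : Snapper75.len P (genericPoint Y) = (f.residueDegree (genericPoint X) : ℚ) := by
    rw [← hξ]
    exact PullDeg75.len_push_unit k f hf (d := 1) (by simpa using hX.le)
      (by simpa using dim_closure_genericPoint (X := X) hX)
      ((congrArg (fun z : Y => topologicalKrullDim (closure ({z} : Set Y))) hξ).trans (by simpa using hη1))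
  obtain ⟨e⟩ := nonempty_projIso f (Coh.structureModule X) (E := E)
  have hfE : Coh.IsCoh (CohB1.tensorMod (Coh.structureModule X) ((Scheme.Modules.pullback f).obj E)) :=
    Amp73.isCoh_tensorMod hOX ⟨QCPull72.isQuasicoherent_pullback f E,
      have := hEc.2; QCPull72.isFiniteType_pullback f E⟩
  rw [hTs, hlen2, Crv77.euler_congr e, euler_push_finite k f hf _ hfE, euler_push_finite k f hf _ hOX,
    Crv77.euler_congr (EGA73.tensUnitLeft ((Scheme.Modules.pullback f).obj E)), ← h1] at h2
  have : ((Curv2.deg k X ((Scheme.Modules.pullback f).obj E) n : ℤ) : ℚ) =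
      (((f.residueDegree (genericPoint X) : ℤ) * Curv2.deg k Y E n : ℤ) : ℚ) := by
    simp only [Curv2.deg]
    push_cast
    linarith [h2]
  exact_mod_cast this

end Groth.Agent.CurveDeg75

end
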