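import Groth.Agent.CurveDeg75.Pull
import Groth.Agent.SchBasics.Closure
import Groth.Agent.RatFun90.Dense

/-! Degrees on proper curves with several components. -/

set_option autoImplicit false
set_option backward.isDefEq.respectTransparency.types false
universe u

open CategoryTheory CategoryTheory.Limits AlgebraicGeometry TopologicalSpace Opposite

noncomputable section

namespace Groth.Agent.CurveDeg75

variable (k : Type u) [Field k] {X : Scheme.{u}} [X.Over (Spec (CommRingCat.of k))]
  [IsProper (X ↘ Spec (CommRingCat.of k))]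

theorem isCoh_pullback {Y : Scheme.{u}} (f : Y ⟶ X) {n : ℕ} {E : X.Modules}
    (hE : FlatMod.IsFinLocFreeOfRank n E) :
    Coh.IsCoh (CohB1.tensorMod (Coh.structureModule Y) ((Scheme.Modules.pullback f).obj E)) := by
  have h := VarMods75.isCoh hE
  have := h.1
  have := h.2
  exact QC70.isCoh_of_iso (EGA73.tensUnitLeft _).symm
    ⟨QCPull72.isQuasicoherent_pullback f E, QCPull72.isFiniteType_pullback f E⟩

/-- The degree as the defect of a direct image along a finite morphism. -/
theorem deg_eq_euler_push {Y : Scheme.{u}} [Y.Over (Spec (CommRingCat.of k))] (f : Y ⟶ X) [IsFinite f]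
    (hf : f ≫ (X ↘ Spec (CommRingCat.of k)) = Y ↘ Spec (CommRingCat.of k)) {n : ℕ} {E : X.Modules}
    (hE : FlatMod.IsFinLocFreeOfRank n E) :
    Curv2.deg k Y ((Scheme.Modules.pullback f).obj E) n =
      Curv2.euler k X (CohB1.tensorMod ((Coh.push f).obj (Coh.structureModule Y)) E) -
        n * Curv2.euler k X ((Coh.push f).obj (Coh.structureModule Y)) := by
  have := Crv77.isNoetherian_of_proper k X
  have := LocallyOfFiniteType.isLocallyNoetherian f
  have hO : Coh.IsCoh (Coh.structureModule Y) := Crv77.isCoh_structureModule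
  have := hO.1
  have := (VarMods75.isCoh hE).1
  obtain ⟨e⟩ := nonempty_projIso f (Coh.structureModule Y) (E := E)
  rw [Crv77.euler_congr e, euler_push_finite k f hf _ (isCoh_pullback f hE),
    euler_push_finite k f hf _ hO, Crv77.euler_congr (EGA73.tensUnitLeft ((Scheme.Modules.pullback f).obj E))]
  rfl

theorem quot_eq_deg {n : ℕ} {E : X.Modules} (hE : FlatMod.IsFinLocFreeOfRank n E) (η : X)
    (I : X.IdealSheafData)
    (hI : I = Scheme.IdealSheafData.vanishingIdeal (⟨closure ({η} : Set X), isClosed_closure⟩ : Closeds X)) :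
    Curv2.euler k X (CohB1.tensorMod (Snapper75.ptMod η) E) - n * Curv2.euler k X (Snapper75.ptMod η) =
      @Curv2.deg k _ I.subscheme ⟨I.subschemeι ≫ (X ↘ (Spec (CommRingCat.of k)))⟩
        ((Scheme.Modules.pullback I.subschemeι).obj E) n := by
  subst hI
  let f := (Scheme.IdealSheafData.vanishingIdeal
    (⟨closure ({η} : Set X), isClosed_closure⟩ : Closeds X)).subschemeι
  let iY : (Scheme.IdealSheafData.vanishingIdeal
      (⟨closure ({η} : Set X), isClosed_closure⟩ : Closeds X)).subscheme.Over (Spec (CommRingCat.of k)) :=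
    ⟨f ≫ (X ↘ (Spec (CommRingCat.of k)))⟩
  exact (deg_eq_euler_push k f rfl hE).symm

theorem dim_closure_le_one (hdim : topologicalKrullDim X ≤ 1) (x : X) :
    topologicalKrullDim (closure ({x} : Set X)) ≤ ((1 : ℕ) : WithBot ℕ∞) :=
  le_trans (topologicalKrullDim_subspace_le X _) (by simpa using hdim)

/-- The degree as a sum over the one-dimensional components. -/
theorem deg_eq_sum (hdim : topologicalKrullDim X ≤ 1) [IsNoetherian X]
    (n : ℕ) (E : X.Modules) (hE : FlatMod.IsFinLocFreeOfRank n E) :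
    Curv2.deg k X E n = ∑ᶠ Z : irreducibleComponents (X : Type u),
      (if topologicalKrullDim (Z.1 : Set X) = 1 then
        ((Module.length (X.presheaf.stalk Z.2.1.genericPoint) (X.presheaf.stalk Z.2.1.genericPoint)).toNat : ℤ) *
          @Curv2.deg k _ (X.irreducibleComponentIdeal Z.1 Z.2).radical.subscheme
            ⟨(X.irreducibleComponentIdeal Z.1 Z.2).radical.subschemeι ≫ (X ↘ (Spec (CommRingCat.of k)))⟩
            ((Scheme.Modules.pullback (X.irreducibleComponentIdeal Z.1 Z.2).radical.subschemeι).obj E) n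
      else 0) := by
  classical
  obtain ⟨T, c, hT, hform⟩ := VarMods75.exists_euler_tensor_formula k hdim hE
  have hO : Coh.IsCoh (Coh.structureModule X) := Crv77.isCoh_structureModule
  have hd : topologicalKrullDim (Set.univ : Set X) ≤ ((1 : ℕ) : WithBot ℕ∞) :=
    le_trans (topologicalKrullDim_subspace_le X _) (by simpa using hdim)
  -- the value of `c`
  have hlen : ∀ η, η ∈ T → ∀ ξ, ξ ∈ T → Snapper75.len (Snapper75.ptMod η) ξ = if ξ = η then 1 else 0 := by
    intro η hη ξ hξ
    split_ifs with h
    · subst h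
      simp [Snapper75.len, Snapper75.length_ptMod ξ]
    · refine Snapper75.len_eq_zero fun hmem => h ?_
      exact (Snapper75.eq_of_dim_eq (d := 1) (by simpa using (hT ξ).1 hξ) (dim_closure_le_one hdim η)
        (specializes_iff_mem_closure.2 (Snapper75.support_ptMod η hmem))).symm
  have hc : ∀ η ∈ T, c η = ((Curv2.euler k X (CohB1.tensorMod (Snapper75.ptMod η) E) -
      n * Curv2.euler k X (Snapper75.ptMod η) : ℤ) : ℚ) := by
    intro η hη
    have h := hform _ (Crv77.isCoh_quotMod _ : Coh.IsCoh (Snapper75.ptMod η))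
    rw [Finset.sum_eq_single_of_mem η hη fun ξ hξ hne => by rw [hlen η hη ξ hξ, if_neg hne, zero_mul],
      hlen η hη η hη, if_pos rfl, one_mul] at h
    push_cast
    exact h.symm
  have h0 := hform _ hO
  rw [Crv77.euler_congr (EGA73.tensUnitLeft E)] at h0
  have hdeg : (Curv2.deg k X E n : ℚ) =
      ((∑ η ∈ T, ((Module.length (X.presheaf.stalk η) (X.presheaf.stalk η)).toNat : ℤ) *
        (Curv2.euler k X (CohB1.tensorMod (Snapper75.ptMod η) E) -
          n * Curv2.euler k X (Snapper75.ptMod η)) : ℤ) : ℚ) := by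
    rw [Curv2.deg]
    push_cast at h0 ⊢
    rw [h0]
    refine Finset.sum_congr rfl fun η hη => ?_
    rw [hc η hη, Snapper75.len, (QC70.unitStalkEquiv η).symm.length_eq]
    push_cast
    rfl
  rw [Int.cast_inj.1 hdeg]
  have := (NoetherianSpace.finite_irreducibleComponents (α := X)).to_subtype
  have := Fintype.ofFinite (irreducibleComponents (X : Type u))
  rw [finsum_eq_sum_of_fintype, ← Finset.sum_filter]
  have hcomp : ∀ η ∈ T, closure ({η} : Set X) ∈ irreducibleComponents (X : Type u) := by
    intro η hη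
    rw [SchBasics.closure_singleton_mem_irreducibleComponents_iff]
    intro y hy
    exact (Snapper75.eq_of_dim_eq (d := 1) (by simpa using (hT η).1 hη) (dim_closure_le_one hdim y) hy)
  have hgen : ∀ Z : irreducibleComponents (X : Type u), closure ({Z.2.1.genericPoint} : Set X) = Z.1 :=
    fun Z => Z.2.1.closure_genericPoint (isClosed_of_mem_irreducibleComponents Z.1 Z.2)
  refine Finset.sum_bij' (fun η hη => ⟨closure {η}, hcomp η hη⟩) (fun Z _ => Z.2.1.genericPoint)
    (fun η hη => Finset.mem_filter.2 ⟨Finset.mem_univ _, (hT η).1 hη⟩)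
    (fun Z hZ => (hT _).2 (by rw [hgen Z]; exact (Finset.mem_filter.1 hZ).2))
    (fun η hη => ?_) (fun Z _ => Subtype.ext (hgen Z)) (fun η hη => ?_)
  · exact ((hcomp η hη).1.isGenericPoint_genericPoint isClosed_closure).eq isGenericPoint_closure
  · have he : (hcomp η hη).1.genericPoint = η :=
      ((hcomp η hη).1.isGenericPoint_genericPoint isClosed_closure).eq isGenericPoint_closure
    dsimp only
    rw [he]
    congr 1
    refine quot_eq_deg k hE η _ ?_
    rw [← Scheme.IdealSheafData.vanishingIdeal_support]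
    congr 1

/-- The complement of a dense open in dimension one is a finite set of closed points. -/
theorem finite_compl_dense {T : Type u} [TopologicalSpace T] [NoetherianSpace T] [QuasiSober T] [T0Space T]
    (hdim : topologicalKrullDim T ≤ 1) {U : Set T} (hUo : IsOpen U) (hU : Dense U) :
    Uᶜ.Finite ∧ ∀ x ∈ Uᶜ, IsClosed ({x} : Set T) := by
  have hcl : ∀ x ∈ Uᶜ, IsClosed ({x} : Set T) := by
    intro x hx
    have hZ := irreducibleComponent_mem_irreducibleComponents x
    obtain ⟨z, hz⟩ := QuasiSober.sober hZ.1 (isClosed_of_mem_irreducibleComponents _ hZ)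
    exact Crv77.isClosed_singleton_of_generalization hdim (hz.specializes mem_irreducibleComponent)
      fun h => hx (h ▸ RatFun90.generic_mem_of_dense NoetherianSpace.finite_irreducibleComponents hUo hU hZ hz)
  refine ⟨?_, hcl⟩
  obtain ⟨S, hSf, hSc, hSi, hS⟩ := NoetherianSpace.exists_finite_set_isClosed_irreducible hUo.isClosed_compl
  rw [hS]
  refine hSf.sUnion fun Z hZ => ?_
  obtain ⟨g, hg⟩ := QuasiSober.sober (hSi Z hZ) (hSc Z hZ)
  have hgm : g ∈ Uᶜ := hS ▸ Set.mem_sUnion_of_mem hg.mem hZ
  rw [← hg.def, (hcl g hgm).closure_eq]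
  exact Set.finite_singleton g

theorem bijective_stalk_unitToPush {Y : Scheme.{u}} (f : Y ⟶ X) (U : X.Opens) [IsIso (f ∣_ U)] {x : X}
    (hx : x ∈ U) : Function.Bijective (QC70.stalkMapM (ClSub.unitToPush f) x) := by
  have hbij : ∀ W : X.Opens, W ≤ U → Function.Bijective (f.app W) := by
    intro W hW
    have hiso : IsIso ((f ∣_ U).app (U.ι ⁻¹ᵁ W)) := inferInstance
    rw [morphismRestrict_app] at hiso
    have : IsIso (f.app (U.ι ''ᵁ U.ι ⁻¹ᵁ W)) := @IsIso.of_isIso_comp_right _ _ _ _ _
      (f.app (U.ι ''ᵁ U.ι ⁻¹ᵁ W)) (Y.presheaf.map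
      (eqToHom (image_morphismRestrict_preimage f U (U.ι ⁻¹ᵁ W))).op) inferInstance hiso
    have he : U.ι ''ᵁ U.ι ⁻¹ᵁ W = W := by
      rw [Scheme.Hom.image_preimage_eq_opensRange_inf, Scheme.Opens.opensRange_ι]
      exact inf_eq_right.2 hW
    rw [he] at this
    exact ConcreteCategory.bijective_of_isIso (f.app W)
  constructor
  · intro a b hab
    obtain ⟨W, hW, s, rfl⟩ := QC70.germM_exist a
    obtain ⟨W', hW', t, rfl⟩ := QC70.germM_exist b
    let V := W ⊓ W' ⊓ U
    have hV : x ∈ V := ⟨⟨hW, hW'⟩, hx⟩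
    rw [← QC70.germM_res (show V ≤ W from inf_le_left.trans inf_le_left) hV s,
      ← QC70.germM_res (show V ≤ W' from inf_le_left.trans inf_le_right) hV t] at hab ⊢
    rw [QC70.stalkMapM_germ, QC70.stalkMapM_germ] at hab
    obtain ⟨V', hV', i₁, i₂, heq⟩ := TopCat.Presheaf.germ_eq
      ((Scheme.Modules.pushforward f).obj (Coh.structureModule Y)).presheaf x _ _ _ _ hab
    refine ((QC70.germM_res i₁.le hV' _).symm.trans (congrArg _ ?_)).trans (QC70.germM_res i₂.le hV' _)
    refine (hbij V' (i₁.le.trans inf_le_right)).1 ?_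
    refine ((QC70.app_res (ClSub.unitToPush f) i₁.le _).trans heq).trans ?_
    exact (QC70.app_res (ClSub.unitToPush f) i₂.le _).symm
  · intro b
    obtain ⟨W, hW, t, rfl⟩ := QC70.germM_exist b
    have hV : x ∈ W ⊓ U := ⟨hW, hx⟩
    obtain ⟨s, hs⟩ := (hbij (W ⊓ U) inf_le_right).2
      (QC70.res ((Scheme.Modules.pushforward f).obj (Coh.structureModule Y)) inf_le_left t)
    refine ⟨QC70.germM (Coh.structureModule X) (W ⊓ U) x hV s, ?_⟩
    rw [QC70.stalkMapM_germ, ← QC70.germM_res (inf_le_left : W ⊓ U ≤ W) hV t]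
    exact congrArg _ hs

/-- A birational morphism of proper curves preserves degrees. -/
theorem deg_pullback_birational {X' : Scheme.{u}} [X'.Over (Spec (CommRingCat.of k))]
    [IsProper (X' ↘ Spec (CommRingCat.of k))] (hdim : topologicalKrullDim X ≤ 1)
    (hdim' : topologicalKrullDim X' ≤ 1)
    (f : X' ⟶ X) (hf : f ≫ (X ↘ (Spec (CommRingCat.of k))) = X' ↘ (Spec (CommRingCat.of k)))
    (U : X.Opens) (hU : Dense (U : Set X)) (hU' : Dense ((f ⁻¹ᵁ U : X'.Opens) : Set X'))
    (hfU : IsIso (f ∣_ U)) (n : ℕ) (E : X.Modules) (hE : FlatMod.IsFinLocFreeOfRank n E) :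
    Curv2.deg k X' ((Scheme.Modules.pullback f).obj E) n = Curv2.deg k X E n := by
  classical
  have := FGA29.isProper_of_over k f hf
  have := Crv77.isNoetherian_of_proper k X
  have := Crv77.isNoetherian_of_proper k X'
  have : LocallyQuasiFinite f := by
    refine LocallyQuasiFinite.of_finite_preimage_singleton f fun y => ?_
    have h1 : (f ⁻¹' {y} ∩ ((f ⁻¹ᵁ U : X'.Opens) : Set X')).Subsingleton := by
      rintro a ⟨ha, haU⟩ b ⟨hb, hbU⟩
      have hinj : Function.Injective (f ∣_ U) := (f ∣_ U).homeomorph.injective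
      have hab : f a = f b := (show f a = y from ha).trans (show f b = y from hb).symm
      have := @hinj ⟨a, haU⟩ ⟨b, hbU⟩ (Subtype.ext ((morphismRestrict_base_coe f U ⟨a, haU⟩).trans
        (hab.trans (morphismRestrict_base_coe f U ⟨b, hbU⟩).symm)))
      exact congrArg Subtype.val this
    refine (h1.finite.union (finite_compl_dense hdim' (f ⁻¹ᵁ U).2 hU').1).subset fun a ha => ?_
    by_cases h : a ∈ ((f ⁻¹ᵁ U : X'.Opens) : Set X')
    · exact Or.inl ⟨ha, h⟩
    · exact Or.inr h
  have := IsFinite.of_isProper_of_locallyQuasiFinite f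
  have hO : Coh.IsCoh (Coh.structureModule X) := Crv77.isCoh_structureModule
  have hO' : Coh.IsCoh (Coh.structureModule X') := Crv77.isCoh_structureModule
  obtain ⟨T, c, hT, hform⟩ := VarMods75.exists_euler_tensor_formula k hdim hE
  have hP : Coh.IsCoh ((Coh.push f).obj (Coh.structureModule X')) := Cyc90.isCoh_push_of_isFinite f _ hO'
  have hlen : ∀ η ∈ T, Snapper75.len ((Coh.push f).obj (Coh.structureModule X')) η =
      Snapper75.len (Coh.structureModule X) η := by
    intro η hη
    have hηU : η ∈ U := by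
      by_contra hn
      have hcl := (finite_compl_dense hdim U.2 hU).2 η hn
      have h1 := (hT η).1 hη
      rw [hcl.closure_eq] at h1
      exact absurd (h1.symm.trans_le (topologicalKrullDim_zero_of_discreteTopology ({η} : Set X))) (not_le.2 zero_lt_one)
    let e : (Coh.structureModule X).presheaf.stalk η ≃ₗ[X.presheaf.stalk η]
        ((Coh.push f).obj (Coh.structureModule X')).presheaf.stalk η :=
      LinearEquiv.ofBijective (QC70.stalkLinear (ClSub.unitToPush f) η) (bijective_stalk_unitToPush f U hηU)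
    simp only [Snapper75.len, e.length_eq]
  have h2 := hform _ hP
  rw [Finset.sum_congr rfl fun η hη => by rw [hlen η hη], ← hform _ hO,
    Crv77.euler_congr (EGA73.tensUnitLeft E)] at h2
  have h3 : ((Curv2.deg k X' ((Scheme.Modules.pullback f).obj E) n : ℤ) : ℚ) = (Curv2.deg k X E n : ℚ) := by
    rw [deg_eq_euler_push k f hf hE, Curv2.deg]
    push_cast
    linarith [h2]
  exact_mod_cast h3

end Groth.Agent.CurveDeg75

end
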