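import Groth.Agent.CurveDeg75.Birat
import Groth.Agent.HP96.Basic
import Groth.Agent.VB30.Tensor
import Groth.Agent.CAlg8.Canon.Basic
import Groth.Agent.Om3.ExtPowPull
import Groth.Agent.Om3.DetSeq
import Groth.Agent.S1585
import Groth.Agent.VB30.Det2
import Groth.Agent.Curves2.CurveComponents
import Groth.Agent.SpFP87.IntegralDim
import Groth.Agent.EGA73.CurveVal

/-! The degree of a bundle on a proper curve is the degree of its determinant. -/

set_option autoImplicit false
set_option backward.isDefEq.respectTransparency.types false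
set_option maxHeartbeats 1000000
universe u

open CategoryTheory CategoryTheory.Limits AlgebraicGeometry TopologicalSpace Opposite exteriorPower

noncomputable section

namespace Groth.Agent.CurveDeg75

variable (k : Type u) [Field k] {X : Scheme.{u}} [X.Over (Spec (CommRingCat.of k))]
  [IsProper (X ↘ Spec (CommRingCat.of k))]

attribute [local instance 50] specializationOrder

omit [IsProper (X ↘ Spec (CommRingCat.of k))] [X.Over (Spec (CommRingCat.of k))] in
/-- Integral morphisms do not raise dimension. -/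
theorem topologicalKrullDim_le_of_isIntegralHom {Y : Scheme.{u}} (f : Y ⟶ X) [IsIntegralHom f] :
    topologicalKrullDim Y ≤ topologicalKrullDim X := by
  rw [topologicalKrullDim, topologicalKrullDim,
    Order.krullDim_eq_of_orderIso (irreducibleSetEquivPoints (α := ↥Y)),
    Order.krullDim_eq_of_orderIso (irreducibleSetEquivPoints (α := ↥X))]
  exact Order.krullDim_le_of_strictMono (fun y => f y) fun a b (hab : a < b) =>
    lt_of_le_of_ne ((show b ⤳ a from hab.le).map f.continuous)
      fun e => hab.ne (SpFP87.eq_of_specializes_of_integral f hab.le e.symm).symm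

/-- A bundle of rank zero has degree zero. -/
theorem deg_rank_zero (hdim : topologicalKrullDim X ≤ 1) {E : X.Modules}
    (hE : FlatMod.IsFinLocFreeOfRank 0 E) : Curv2.deg k X E 0 = 0 := by
  have := Crv77.isNoetherian_of_proper k X
  have hz : IsZero E := by
    refine HP96.isZero_iff_support_eq_empty.2 (Set.eq_empty_iff_forall_notMem.2 fun x hx => ?_)
    obtain ⟨U, hxU, ⟨e⟩⟩ := hE x
    obtain ⟨s, hs⟩ := Props58.LocFree.exists_stalkBasis_of_iso e
    have : Subsingleton (E.presheaf.stalk x) := (hs.stalkEquiv x hxU).symm.toEquiv.subsingleton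
    exact hx this
  have hS : (ShortComplex.mk (𝟙 E) (0 : E ⟶ E) (by simp)).ShortExact :=
    { exact := ShortComplex.exact_of_isZero_X₂ _ hz
      mono_f := inferInstanceAs (Mono (𝟙 E))
      epi_g := ⟨fun _ _ _ => hz.eq_of_src _ _⟩ }
  have h : Curv2.euler k X E = Curv2.euler k X E + Curv2.euler k X E :=
    (Crv77.curveCoh_of_proper k X hdim).euler_add (S := ShortComplex.mk (𝟙 E) (0 : E ⟶ E) (by simp)) hS
      (VarMods75.isCoh hE) (VarMods75.isCoh hE)
  simp only [Curv2.deg]
  omega

omit [X.Over (Spec (CommRingCat.of k))] in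
theorem isExtPow_zero' (E : X.Modules) : ExtPow.IsExtPow 0 E (Coh.structureModule X) := by
  refine ⟨fun U => (exteriorPower.zeroEquiv Γ(X, U.1) Γ(E, U.1)).symm, fun U V hV e => ?_⟩
  show X.presheaf.map (homOfLE hV).op ((exteriorPower.zeroEquiv Γ(X, U.1) Γ(E, U.1)) (ιMulti _ 0 e)) =
    (exteriorPower.zeroEquiv Γ(X, V.1) Γ(E, V.1)) (ιMulti _ 0 _)
  rw [exteriorPower.zeroEquiv_ιMulti, exteriorPower.zeroEquiv_ιMulti, map_one]

/-- The case of a regular curve. -/
theorem deg_eq_det_regular [IsIntegral X] (h : VB30.Cur k X) :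
    ∀ (n : ℕ) (E L : X.Modules), FlatMod.IsFinLocFreeOfRank n E → ExtPow.IsExtPow n E L →
      Curv2.deg k X E n = Curv2.deg k X L 1 := by
  intro n
  induction n with
  | zero =>
    intro E L hE hL
    have := (VarMods75.isCoh hE).1
    obtain ⟨e⟩ := Om3.nonempty_iso_of_isExtPow hL (isExtPow_zero' E)
    rw [deg_rank_zero k h.dim.le hE, Curv2.deg, Crv77.euler_congr e]
    simp
  | succ n ih =>
    intro E L hE hL
    have hlf := VB30.isFinLocFree_of_rank hE
    obtain ⟨S, hS, h2, hA, hQ, hn⟩ := h.exists_line_sub hlf (VB30.rk_eq_of_isFinLocFreeOfRank hE)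
    let A := S.X₁
    let E' := S.X₂
    let Q := S.X₃
    let f := S.f
    let g := S.g
    have w : f ≫ g = 0 := S.zero
    rw [← h2] at hE hL ⊢
    have hAr := Mero90.isFinLocFreeOfRank_of_isInvertible hA
    have hQr : FlatMod.IsFinLocFreeOfRank n Q := hn ▸ VB30.isFinLocFreeOfRank_rk hQ
    have := (VarMods75.isCoh hAr).1
    have := (VarMods75.isCoh hQr).1
    have := (VarMods75.isCoh hE).1
    obtain ⟨LQ, hLQ⟩ := FBase64.ExtPowExists.exists_isExtPow (p := n) (E := Q)
    obtain ⟨LA, hLA⟩ := FBase64.ExtPowExists.exists_isExtPow (p := 1) (E := A)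
    have hLAi := CAlg8.Canon.isInvertible_extPow hAr hLA
    have hLQi := CAlg8.Canon.isInvertible_extPow hQr hLQ
    obtain ⟨e⟩ := Om3.DetSeq.nonempty_det_iso f g w hS hAr hQr hLA hL hLQ
    have hadd : Curv2.euler k X E' = Curv2.euler k X A + Curv2.euler k X Q :=
      h.curveCoh.euler_add hS (VarMods75.isCoh hAr) (VarMods75.isCoh hE)
    have hLA' : Curv2.deg k X A 1 = Curv2.deg k X LA 1 := by
      obtain ⟨e1⟩ := Om3.nonempty_iso_of_isExtPow hLA (VB30.isExtPow_one_self' hA)
      rw [Curv2.deg, Curv2.deg, Crv77.euler_congr e1]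
    have hQd := ih Q LQ hQr hLQ
    have := h.isNoetherian
    have ht := h.curveCoh.deg_tensorMod h.dim.le hLQi hLAi
    have hL' : Curv2.deg k X L 1 = Curv2.deg k X (CohB1.tensorMod LQ LA) 1 := by
      rw [Curv2.deg, Curv2.deg, Crv77.euler_congr e]
    rw [hL', ht, ← hLA', ← hQd]
    show Curv2.deg k X E' (n + 1) = Curv2.deg k X Q n + Curv2.deg k X A 1
    rw [Curv2.deg, Curv2.deg, Curv2.deg, hadd]
    push_cast
    ring

/-- The case of an integral curve, by normalization. -/
theorem deg_eq_det_integral [IsIntegral X] (hdim : topologicalKrullDim X = 1) (n : ℕ) (E L : X.Modules)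
    (hE : FlatMod.IsFinLocFreeOfRank n E) (hL : ExtPow.IsExtPow n E L) :
    Curv2.deg k X E n = Curv2.deg k X L 1 := by
  have := Crv77.isNoetherian_of_proper k X
  have : QuasiCompact (X.fromSpecStalk (genericPoint X)) := inferInstance
  have : QuasiSeparated (X.fromSpecStalk (genericPoint X)) := inferInstance
  obtain ⟨hfin, hdom, ⟨V, hV, hiso⟩, hint, hnorm⟩ := S1585.result k X
  let f := Curv2.normalizationι X
  let _ : (Curv2.normalization X).Over (Spec (CommRingCat.of k)) := ⟨f ≫ (X ↘ Spec (CommRingCat.of k))⟩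
  have hp : IsProper ((Curv2.normalization X) ↘ Spec (CommRingCat.of k)) :=
    inferInstanceAs (IsProper (f ≫ (X ↘ Spec (CommRingCat.of k))))
  have := Crv77.isNoetherian_of_proper k (Curv2.normalization X)
  have hd : topologicalKrullDim (Curv2.normalization X) ≤ 1 :=
    (topologicalKrullDim_le_of_isIntegralHom f).trans hdim.le
  have hVd : Dense (V : Set X) := V.2.dense hV
  have hV' : ((f ⁻¹ᵁ V : (Curv2.normalization X).Opens) : Set (Curv2.normalization X)).Nonempty := by
    obtain ⟨x, hx⟩ := hV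
    obtain ⟨w, -⟩ := (asIso (f ∣_ V)).schemeIsoToHomeo.surjective ⟨x, hx⟩
    exact ⟨w.1, w.2⟩
  have hVd' := (f ⁻¹ᵁ V).2.dense hV'
  have := (VarMods75.isCoh hE).1
  have hLr := Mero90.isFinLocFreeOfRank_of_isInvertible (CAlg8.Canon.isInvertible_extPow hE hL)
  rw [← deg_pullback_birational k hdim.le hd f rfl V hVd hVd' hiso n E hE,
    ← deg_pullback_birational k hdim.le hd f rfl V hVd hVd' hiso 1 L hLr]
  refine deg_eq_det_regular k ⟨hp, le_antisymm hd ?_, EGA73.valuationRing_stalk hnorm hd⟩ n _ _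
    (CAlg8.Canon.isFinLocFreeOfRank_pullback f hE) (Om3.isExtPow_pullback f hL)
  rw [← hdim]
  have : Surjective f := ⟨fun x => (f.isClosedMap.isClosed_range.closure_eq.symm.trans
    hdom.denseRange.closure_eq).ge (Set.mem_univ x)⟩
  exact SpFP87.topologicalKrullDim_le_of_integral_surjective f

theorem deg_eq_det (hdim : topologicalKrullDim X ≤ 1) (n : ℕ) (E L : X.Modules)
    (hE : FlatMod.IsFinLocFreeOfRank n E) (hL : ExtPow.IsExtPow n E L) :
    Curv2.deg k X E n = Curv2.deg k X L 1 := by
  have := Crv77.isNoetherian_of_proper k X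
  have := (VarMods75.isCoh hE).1
  have hLr := Mero90.isFinLocFreeOfRank_of_isInvertible (CAlg8.Canon.isInvertible_extPow hE hL)
  rw [deg_eq_sum k hdim n E hE, deg_eq_sum k hdim 1 L hLr]
  refine finsum_congr fun Z => ?_
  by_cases hZ : topologicalKrullDim (Z.1 : Set X) = 1
  · rw [if_pos hZ, if_pos hZ]
    congr 1
    let I := (X.irreducibleComponentIdeal Z.1 Z.2).radical
    let _ : I.subscheme.Over (Spec (CommRingCat.of k)) := ⟨I.subschemeι ≫ (X ↘ Spec (CommRingCat.of k))⟩
    have : IsProper (I.subscheme ↘ Spec (CommRingCat.of k)) :=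
      inferInstanceAs (IsProper (I.subschemeι ≫ (X ↘ Spec (CommRingCat.of k))))
    have hZc := isClosed_of_mem_irreducibleComponents Z.1 Z.2
    have hI : I = Scheme.IdealSheafData.vanishingIdeal (⟨Z.1, hZc⟩ : Closeds X) := by
      show (X.irreducibleComponentIdeal Z.1 Z.2).radical = _
      rw [← Scheme.IdealSheafData.vanishingIdeal_support]
      congr 1
    have : IsIntegral I.subscheme := hI ▸ Curves2.isIntegral_vanishingIdeal ⟨Z.1, hZc⟩ Z.2.1
    have hd : topologicalKrullDim I.subscheme = 1 := by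
      have hr : Set.range I.subschemeι = Z.1 := by
        rw [hI]; exact SchBasics.range_vanishingIdeal_subschemeι _
      rw [I.subschemeι.isClosedEmbedding.isEmbedding.toHomeomorph.isHomeomorph.topologicalKrullDim_eq, hr, hZ]
    exact deg_eq_det_integral k hd n _ _ (CAlg8.Canon.isFinLocFreeOfRank_pullback _ hE)
      (Om3.isExtPow_pullback _ hL)
  · rw [if_neg hZ, if_neg hZ]

end Groth.Agent.CurveDeg75

end
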